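import Groth.Agent.Castel.FibreEuler
import Groth.Agent.Castel.EulerTrivial
import Groth.Agent.Castel.FibreModel
import Groth.Agent.GrothSS.ChangeRings
import Groth.Agent.Intersect.Snapper
import Groth.Agent.TMul.Pullback
import Groth.Agent.SerrePn.ClosedDepth
import Groth.Agent.Unibranch.FibreDims
import Groth.Agent.QuotProj.Fam
import Groth.Agent.CurveRR.Deg

/-!
A multiple closed fibre: the multiplicity divides the Euler characteristic of the generic fibre.
-/

set_option autoImplicit false
set_option backward.isDefEq.respectTransparency false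
set_option backward.isDefEq.respectTransparency.types false
set_option linter.style.haveILetI false

universe u

open CategoryTheory CategoryTheory.Limits AlgebraicGeometry TopologicalSpace Opposite

noncomputable section

namespace Groth.Agent.MultFibre

section Pow

variable {X : Scheme.{u}}

/-- The ideal module of a power of an effective Cartier divisor. -/
theorem nonempty_idealMod_pow {I : X.IdealSheafData} (hI : BlowUp.IsEffCartierIdeal I) : ∀ n : ℕ,
    BlowUp.IsEffCartierIdeal (I ^ (n + 1)) ∧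
      Nonempty (CohB1.tensorPow (ClSub.idealMod I) (n + 1) ≅ ClSub.idealMod (I ^ (n + 1)))
  | 0 => by
    rw [zero_add, pow_one]
    exact ⟨hI, TMul.nonempty_powOneIso _⟩
  | n + 1 => by
    obtain ⟨hc, ⟨e⟩⟩ := nonempty_idealMod_pow hI n
    obtain ⟨e', -⟩ := Castel.exists_idealMod_mul hc hI
    rw [pow_succ I (n + 1)]
    exact ⟨BlowUpLib.cartier_mul hc hI, ⟨PicGrp.tensorModIso e (Iso.refl _) ≪≫ e'⟩⟩

/-- A periodic polynomial function on `ℕ` is constant. -/
theorem eval_eq_of_periodic (P : MvPolynomial (Fin 1) ℚ) {m : ℕ} (hm : 0 < m)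
    (h : ∀ n : ℕ, MvPolynomial.eval (fun _ => ((n + m : ℕ) : ℚ)) P = MvPolynomial.eval (fun _ => (n : ℚ)) P)
    (n : ℕ) : MvPolynomial.eval (fun _ => (n : ℚ)) P = MvPolynomial.eval (fun _ => ((0 : ℕ) : ℚ)) P := by
  let Q : Polynomial ℚ := MvPolynomial.aeval (fun _ : Fin 1 => Polynomial.X) P
  have hQ : ∀ a : ℚ, Q.eval a = MvPolynomial.eval (fun _ => a) P := fun a => by
    clear h
    induction P using MvPolynomial.induction_on with
    | C c => simp [Q]
    | add p q hp hq => simp_all [Q]
    | mul_X p i hp => simp_all [Q]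
  have hk : ∀ l : ℕ, Q.eval ((l * m : ℕ) : ℚ) = Q.eval 0 := fun l => by
    induction l with
    | zero => simp
    | succ l ih =>
      rw [Nat.succ_mul, hQ, h, ← hQ, ih]
  have hz : Q - Polynomial.C (Q.eval 0) = 0 := by
    refine Polynomial.eq_zero_of_infinite_isRoot _ (Set.infinite_of_injective_forall_mem
      (f := fun l : ℕ => ((l * m : ℕ) : ℚ)) (fun a b hab => ?_) fun l => ?_)
    · exact Nat.eq_of_mul_eq_mul_right hm (Nat.cast_injective hab)
    · show (Q - Polynomial.C (Q.eval 0)).IsRoot _
      rw [Polynomial.IsRoot, Polynomial.eval_sub, Polynomial.eval_C, hk, sub_self]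
  have hc := congrArg (Polynomial.eval (n : ℚ)) hz
  rw [Polynomial.eval_sub, Polynomial.eval_C, Polynomial.eval_zero, sub_eq_zero] at hc
  rw [← hQ, hc, Nat.cast_zero, ← hQ]

/-- Tensor powers of a torsion invertible module have constant Euler characteristic. -/
theorem euler_tensorPow_of_torsion (k : Type u) [Field k] (D : Scheme.{u})
    [D.Over (Spec (CommRingCat.of k))] [IsProper (D ↘ Spec (CommRingCat.of k))] {N : D.Modules}
    (hN : PicF.IsInvertible N) {m : ℕ} (hm : 0 < m)
    (e : CohB1.tensorPow N m ≅ Coh.structureModule D) (n : ℕ) :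
    Curv2.euler k D (CohB1.tensorPow N n) = Curv2.euler k D (Coh.structureModule D) := by
  haveI := CurveRR.isNoetherian_of_proper k D
  obtain ⟨b, hb⟩ : ∃ b : ℕ, topologicalKrullDim D ≤ (b : WithBot ℕ∞) := by
    let f := D ↘ Spec (CommRingCat.of k)
    let y : Spec (CommRingCat.of k) := IsLocalRing.closedPoint k
    haveI : Subsingleton (Spec (CommRingCat.of k)) := inferInstanceAs (Subsingleton (PrimeSpectrum k))
    have huniv : f ⁻¹' {y} = Set.univ := Set.eq_univ_of_forall fun x => Subsingleton.elim (f x) y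
    let e : f.fiber y ≃ₜ D := (f.fiberHomeo y).trans ((Homeomorph.setCongr huniv).trans (Homeomorph.Set.univ D))
    rcases Unibranch.exists_natCast_dim_fiber f y with h | ⟨b, hb⟩
    · haveI : IsEmpty D := ⟨fun x => h.false (e.symm x)⟩
      haveI : IsEmpty (IrreducibleCloseds D) := ⟨fun Z => IsEmpty.false (Set.Nonempty.some Z.isIrreducible.nonempty)⟩
      exact ⟨0, by rw [show topologicalKrullDim D = ⊥ from Order.krullDim_eq_bot]; exact bot_le⟩
    · exact ⟨b, ((IsHomeomorph.topologicalKrullDim_eq _ e.isHomeomorph).symm.trans hb).le⟩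
  obtain ⟨d, hd⟩ : ∃ d : ℕ,
      topologicalKrullDim (CohB1.support (Coh.structureModule D)) < (d : WithBot ℕ∞) :=
    ⟨b + 1, lt_of_le_of_lt ((Topology.IsInducing.subtypeVal.topologicalKrullDim_le).trans hb)
      (by exact_mod_cast Nat.lt_succ_self b)⟩
  obtain ⟨P, -, hP⟩ := Intersect.exists_polynomial k RefStalk.isCoh_structureModule hd (L := fun _ : Fin 1 => N)
    (fun _ => hN)
  have key : ∀ j : ℕ, (Curv2.euler k D (CohB1.tensorPow N j) : ℚ) = MvPolynomial.eval (fun _ => (j : ℚ)) P :=
    fun j => by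
      refine Eq.trans ?_ (hP fun _ => j)
      refine congrArg Int.cast ?_
      exact CurveRR.euler_eq_of_iso (TMul.leftUnitIso _).symm
  have hper : ∀ j : ℕ, MvPolynomial.eval (fun _ => ((j + m : ℕ) : ℚ)) P = MvPolynomial.eval (fun _ => (j : ℚ)) P :=
    fun j => by
      rw [← key, ← key]
      obtain ⟨a⟩ := TMul.nonempty_powAddIso (L := N) j m
      refine congrArg Int.cast ?_
      exact CurveRR.euler_eq_of_iso (a.symm ≪≫ PicGrp.tensorModIso (Iso.refl _) e ≪≫ TMul.commIso _ _ ≪≫
        TMul.leftUnitIso _)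
  have h := (key n).trans ((eval_eq_of_periodic P hm hper n).trans (key 0).symm)
  exact_mod_cast h

end Pow

section Fibre

variable {X Y : Scheme.{u}} (ι : Y ⟶ X) [IsClosedImmersion ι]

local notation "adj" => Scheme.Modules.pullbackPushforwardAdjunction ι

theorem isIso_unit_push (Z : Y.Modules) : IsIso ((adj).unit.app ((Scheme.Modules.pushforward ι).obj Z)) := by
  haveI := GrothSS.isIso_counit_push ι
  haveI : IsIso ((Scheme.Modules.pushforward ι).map ((adj).counit.app Z)) := inferInstance
  haveI : IsIso ((adj).unit.app ((Scheme.Modules.pushforward ι).obj Z) ≫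
      (Scheme.Modules.pushforward ι).map ((adj).counit.app Z)) := by
    rw [(adj).right_triangle_components Z]; infer_instance
  exact IsIso.of_isIso_comp_right ((adj).unit.app ((Scheme.Modules.pushforward ι).obj Z))
    ((Scheme.Modules.pushforward ι).map ((adj).counit.app Z))

theorem isIso_unit_of_iso {G G' : X.Modules} (e : G ≅ G') (h : IsIso ((adj).unit.app G)) :
    IsIso ((adj).unit.app G') := (NatTrans.isIso_app_iff_of_iso (adj).unit e).1 h

/-- A short exact sequence of modules supported on `Y` comes from `Y`. -/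
theorem shortExact_pullback {S : ShortComplex X.Modules} (hS : S.ShortExact)
    (h₁ : IsIso ((adj).unit.app S.X₁)) (h₂ : IsIso ((adj).unit.app S.X₂)) (h₃ : IsIso ((adj).unit.app S.X₃)) :
    (S.map (Scheme.Modules.pullback ι)).ShortExact := by
  haveI := GrothSS.isIso_counit_push ι
  haveI : (Scheme.Modules.pushforward ι).Faithful := (adj).fullyFaithfulROfIsIsoCounit.faithful
  haveI := GrothSS.preservesFiniteLimits_push ι
  haveI := GrothSS.preservesFiniteColimits_push ι
  have e : S ≅ (S.map (Scheme.Modules.pullback ι)).map (Scheme.Modules.pushforward ι) :=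
    ShortComplex.isoMk (asIso ((adj).unit.app S.X₁)) (asIso ((adj).unit.app S.X₂)) (asIso ((adj).unit.app S.X₃))
      ((adj).unit.naturality S.f).symm ((adj).unit.naturality S.g).symm
  have h := ShortComplex.shortExact_of_iso e hS
  haveI : Mono ((Scheme.Modules.pushforward ι).map (S.map (Scheme.Modules.pullback ι)).f) := h.mono_f
  haveI : Epi ((Scheme.Modules.pushforward ι).map (S.map (Scheme.Modules.pullback ι)).g) := h.epi_g
  exact
    { exact := (ShortComplex.exact_map_iff_of_faithful _ (Scheme.Modules.pushforward ι)).1 h.exact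
      mono_f := (Scheme.Modules.pushforward ι).mono_of_mono_map ‹_›
      epi_g := (Scheme.Modules.pushforward ι).epi_of_epi_map ‹_› }

variable (k : Type u) [Field k] [Y.Over (Spec (CommRingCat.of k))] [IsProper (Y ↘ Spec (CommRingCat.of k))]

/-- Euler characteristic on `Y` of a module supported on `Y`. -/
def e (G : X.Modules) : ℤ := Curv2.euler k Y ((Scheme.Modules.pullback ι).obj G)

theorem e_eq_of_iso {G G' : X.Modules} (i : G ≅ G') : e ι k G = e ι k G' :=
  CurveRR.euler_eq_of_iso ((Scheme.Modules.pullback ι).mapIso i)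

theorem e_add [IsLocallyNoetherian X] {S : ShortComplex X.Modules} (hS : S.ShortExact)
    (h₁ : IsIso ((adj).unit.app S.X₁)) (h₂ : IsIso ((adj).unit.app S.X₂)) (h₃ : IsIso ((adj).unit.app S.X₃))
    (c₁ : Coh.IsCoh S.X₁) (c₂ : Coh.IsCoh S.X₂) (c₃ : Coh.IsCoh S.X₃) :
    e ι k S.X₂ = e ι k S.X₁ + e ι k S.X₃ := by
  haveI := CurveRR.isNoetherian_of_proper k Y
  have d₁ : Coh.IsCoh ((Scheme.Modules.pullback ι).obj S.X₁) := QC.isCoh_pullback ι c₁
  have d₂ : Coh.IsCoh ((Scheme.Modules.pullback ι).obj S.X₂) := QC.isCoh_pullback ι c₂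
  have d₃ : Coh.IsCoh ((Scheme.Modules.pullback ι).obj S.X₃) := QC.isCoh_pullback ι c₃
  exact CurveRR.euler_add (k := k) (S := S.map (Scheme.Modules.pullback ι)) (shortExact_pullback ι hS h₁ h₂ h₃) d₁ d₂ d₃

/-- Pushforwards from closed subschemes of `Y`. -/
theorem supported_push [IsLocallyNoetherian X] {D : Scheme.{u}} (s : D ⟶ X) [IsClosedImmersion s]
    (j : D ⟶ Y) (hj : j ≫ ι = s) (M : D.Modules) (hM : Coh.IsCoh M) :
    letI : D.Over (Spec (CommRingCat.of k)) := ⟨j ≫ (Y ↘ Spec (CommRingCat.of k))⟩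
    IsIso ((adj).unit.app ((Scheme.Modules.pushforward s).obj M)) ∧
      Coh.IsCoh ((Scheme.Modules.pushforward s).obj M) ∧
      e ι k ((Scheme.Modules.pushforward s).obj M) = Curv2.euler k D M := by
  subst hj
  haveI : IsClosedImmersion j := IsClosedImmersion.of_comp j ι
  letI : D.Over (Spec (CommRingCat.of k)) := ⟨j ≫ (Y ↘ Spec (CommRingCat.of k))⟩
  let i := ((Scheme.Modules.pushforwardComp j ι).app M)
  refine ⟨isIso_unit_of_iso ι i (isIso_unit_push ι _), SerrePn.isCoh_push (j ≫ ι) hM, ?_⟩
  haveI := GrothSS.isIso_counit_push ι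
  refine (e_eq_of_iso ι k i.symm).trans ?_
  refine (CurveRR.euler_eq_of_iso ((asIso (adj).counit).app ((Scheme.Modules.pushforward j).obj M))).trans ?_
  exact CurveRR.Multi.euler_push k j M hM.1

/-- If the ideal of `Y` is the `m`-th power of a Cartier ideal `I` with trivial module, the Euler
characteristic of `Y` is `m` times that of `V(I)`. -/
theorem dvd_euler [IsLocallyNoetherian X] {I : X.IdealSheafData} (hI : BlowUp.IsEffCartierIdeal I) {m : ℕ}
    (hIm : I ^ (m + 1) = ι.ker) (t : Coh.structureModule X ≅ ClSub.idealMod ι.ker) :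
    ((m + 1 : ℕ) : ℤ) ∣ Curv2.euler k Y (Coh.structureModule Y) := by
  have hle : ∀ i, i ≤ m → ι.ker ≤ (I ^ (i + 1)).subschemeι.ker := fun i hi => by
    rw [Scheme.IdealSheafData.ker_subschemeι, ← hIm]
    exact pow_le_pow_right_of_le_one' (Scheme.IdealSheafData.one_eq_top (X := X) ▸ le_top) (by omega)
  let J : ∀ i, i ≤ m → ((I ^ (i + 1)).subscheme ⟶ Y) := fun i hi =>
    IsClosedImmersion.lift ι (I ^ (i + 1)).subschemeι (hle i hi)
  -- the divisor
  let D := (I ^ 1).subscheme
  let s : D ⟶ X := (I ^ 1).subschemeι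
  let j : D ⟶ Y := J 0 (Nat.zero_le m)
  have hj : j ≫ ι = s := IsClosedImmersion.lift_fac _ _ _
  letI : D.Over (Spec (CommRingCat.of k)) := ⟨j ≫ (Y ↘ Spec (CommRingCat.of k))⟩
  haveI : IsClosedImmersion j := by
    haveI : IsClosedImmersion (j ≫ ι) := by rw [hj]; infer_instance
    exact IsClosedImmersion.of_comp j ι
  haveI : IsProper (D ↘ Spec (CommRingCat.of k)) := inferInstanceAs (IsProper (j ≫ _))
  haveI := CurveRR.isNoetherian_of_proper k D
  let A := ClSub.idealMod I
  have hA : PicF.IsInvertible A := (Groth.Agent.S8914.result I).2 hI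
  let N := (Scheme.Modules.pullback s).obj A
  have hN : PicF.IsInvertible N := PicLoc.isInvertible_pullback s hA
  have hNpow : ∀ n, Nonempty ((Scheme.Modules.pullback s).obj (ClSub.idealMod (I ^ (n + 1))) ≅
      CohB1.tensorPow N (n + 1)) := fun n => by
    obtain ⟨a⟩ := (nonempty_idealMod_pow hI n).2
    obtain ⟨b⟩ := TMul.nonempty_pullPowIso s A (n + 1)
    exact ⟨(Scheme.Modules.pullback s).mapIso a.symm ≪≫ b.symm⟩
  obtain ⟨per⟩ : Nonempty (CohB1.tensorPow N (m + 1) ≅ Coh.structureModule D) := by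
    obtain ⟨a⟩ := hNpow m
    exact ⟨a.symm ≪≫ (Scheme.Modules.pullback s).mapIso (eqToIso (congrArg ClSub.idealMod hIm) ≪≫ t.symm) ≪≫
      PicLoc.pullbackStructureIso s⟩
  let c := Curv2.euler k D (Coh.structureModule D)
  -- the steps
  have key : ∀ i (hi : i ≤ m), e ι k (ClSub.quotMod (I ^ (i + 1))) = ((i + 1 : ℕ) : ℤ) * c := by
    intro i
    induction i with
    | zero =>
      intro hi
      rw [Nat.cast_one, one_mul]
      exact (supported_push ι k s j hj _ RefStalk.isCoh_structureModule).2.2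
    | succ i ih =>
      intro hi
      have hi' : i ≤ m := (Nat.le_succ i).trans hi
      obtain ⟨S, hS, ⟨a₁⟩, ⟨a₂⟩, ⟨a₃⟩⟩ :=
        Castel.exists_shortExact_quotMod_mul (nonempty_idealMod_pow hI i).1 (nonempty_idealMod_pow hI 0).1
      have h2 : I ^ (0 + 1) * I ^ (i + 1) = I ^ (i + 1 + 1) := by rw [← pow_add]; congr 1; omega
      let B := ClSub.idealMod (I ^ (i + 1))
      let M := CohB1.tensorMod (Coh.structureModule D) ((Scheme.Modules.pullback s).obj B)
      have hB : PicF.IsInvertible B := (Groth.Agent.S8914.result _).2 (nonempty_idealMod_pow hI i).1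
      have hMc : Coh.IsCoh M := CurveRR.isCoh_of_inv (TMul.isInvertible_tensorMod
        TMul.isInvertible_structureModule (PicLoc.isInvertible_pullback s hB))
      let p : S.X₁ ≅ (Scheme.Modules.pushforward s).obj M :=
        a₁ ≪≫ TMul.commIso _ _ ≪≫ KFlat.projFormulaIso s (Coh.structureModule D) B
      obtain ⟨u₁, c₁, e₁⟩ := supported_push ι k s j hj M hMc
      haveI : IsLocallyNoetherian (I ^ (i + 1 + 1)).subscheme :=
        LocallyOfFiniteType.isLocallyNoetherian (I ^ (i + 1 + 1)).subschemeι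
      haveI : IsLocallyNoetherian (I ^ (i + 1)).subscheme :=
        LocallyOfFiniteType.isLocallyNoetherian (I ^ (i + 1)).subschemeι
      obtain ⟨u₂, c₂, -⟩ := supported_push ι k _ (J (i + 1) hi) (IsClosedImmersion.lift_fac _ _ _)
        (Coh.structureModule _) RefStalk.isCoh_structureModule
      obtain ⟨u₃, c₃, -⟩ := supported_push ι k _ (J i hi') (IsClosedImmersion.lift_fac _ _ _)
        (Coh.structureModule _) RefStalk.isCoh_structureModule
      let q : S.X₂ ≅ ClSub.quotMod (I ^ (i + 1 + 1)) := a₂ ≪≫ eqToIso (congrArg ClSub.quotMod h2)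
      have h := e_add ι k hS (isIso_unit_of_iso ι p.symm u₁) (isIso_unit_of_iso ι q.symm u₂)
        (isIso_unit_of_iso ι a₃.symm u₃) (QuotProj.isCoh_of_iso p.symm c₁)
        (QuotProj.isCoh_of_iso q.symm c₂) (QuotProj.isCoh_of_iso a₃.symm c₃)
      rw [← e_eq_of_iso ι k q, h, e_eq_of_iso ι k p, e₁, e_eq_of_iso ι k a₃, ih hi']
      obtain ⟨b⟩ := hNpow i
      have hM : Curv2.euler k D M = c :=
        (CurveRR.euler_eq_of_iso (TMul.leftUnitIso _ ≪≫ b)).trans
          (euler_tensorPow_of_torsion k D hN (Nat.succ_pos m) per (i + 1))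
      rw [hM]
      push_cast
      ring
  refine ⟨c, ?_⟩
  rw [← key m le_rfl]
  obtain ⟨qi⟩ := ExtShX.nonempty_quotMod_iso ι
  haveI := GrothSS.isIso_counit_push ι
  rw [e_eq_of_iso ι k (eqToIso (congrArg ClSub.quotMod hIm) ≪≫ qi)]
  exact (CurveRR.euler_eq_of_iso ((asIso (adj).counit).app (Coh.structureModule Y))).symm

end Fibre

/-- The multiplicity of the closed fibre divides the Euler characteristic of the generic fibre. -/
theorem dvd_euler_generic (R : Type u) [CommRing R] [IsDomain R] [IsDiscreteValuationRing R] (𝒳 : Scheme.{u})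
    (p : 𝒳 ⟶ Spec (CommRingCat.of R)) [IsProper p] [Flat p] (C : Scheme.{u})
    [C.Over (Spec (CommRingCat.of (FractionRing R)))]
    (hX : Models.IsModel R 𝒳 p C (C ↘ Spec (CommRingCat.of (FractionRing R)))) (m : ℕ)
    (I : 𝒳.IdealSheafData) (hI : BlowUp.IsEffCartierIdeal I)
    (hIm : I ^ (m + 1) = Models.specialFibreIdeal R (Over.mk p)) :
    ((m + 1 : ℕ) : ℤ) ∣ Curv2.euler (FractionRing R) C (Coh.structureModule C) := by
  obtain ⟨-, -, -, g, hg⟩ := hX
  haveI : IsLocallyNoetherian 𝒳 := LocallyOfFiniteType.isLocallyNoetherian p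
  haveI : Flat (Over.mk p).hom := ‹Flat p›
  let K := FractionRing R
  let k := IsLocalRing.ResidueField R
  let S := Spec (CommRingCat.of R)
  let η : S := (⟨⊥, Ideal.isPrime_bot⟩ : PrimeSpectrum R)
  let s : S := IsLocalRing.closedPoint R
  haveI : IsProper (C ↘ Spec (CommRingCat.of K)) := MorphismProperty.of_isPullback hg ‹IsProper p›
  let ψη := Spec.preimage (S.fromSpecResidueField η)
  have hinj : Function.Injective ψη.hom := by
    rw [RingHom.injective_iff_ker_eq_bot]
    exact Castel.ker_preimage_fromSpec η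
  let α : CommRingCat.of K ⟶ S.residueField η := CommRingCat.ofHom (IsFractionRing.lift hinj)
  have hα : Spec.map α ≫ Spec.map (CommRingCat.ofHom (algebraMap R K)) = S.fromSpecResidueField η := by
    rw [← Spec.map_comp, ← Spec.map_preimage (S.fromSpecResidueField η)]
    congr 1
    refine CommRingCat.hom_ext (RingHom.ext fun r => ?_)
    exact IsFractionRing.lift_algebraMap hinj r
  have hbigη : IsPullback (p.fiberι η) (p.fiberToSpecResidueField η) p
      (Spec.map α ≫ Spec.map (CommRingCat.ofHom (algebraMap R K))) := by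
    rw [hα]; exact IsPullback.of_hasPullback _ _
  let γη : p.fiber η ⟶ C := hg.lift (p.fiberι η) (p.fiberToSpecResidueField η ≫ Spec.map α)
    (by rw [Category.assoc]; exact hbigη.w)
  have sqη : IsPullback γη (p.fiberToSpecResidueField η) (C ↘ Spec (CommRingCat.of K)) (Spec.map α) :=
    IsPullback.of_right (by rw [hg.lift_fst]; exact hbigη) (hg.lift_snd _ _ _) hg
  have eη := Castel.eulerChar_of_sq (Y := C) p η α γη sqη
  let res := Spec.map (CommRingCat.ofHom (IsLocalRing.residue R))
  haveI : IsClosedImmersion res := IsClosedImmersion.spec_of_surjective _ IsLocalRing.residue_surjective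
  let Y := pullback p res
  letI : Y.Over (Spec (CommRingCat.of k)) := ⟨pullback.snd p res⟩
  haveI : IsProper (Y ↘ Spec (CommRingCat.of k)) := inferInstanceAs (IsProper (pullback.snd p res))
  let ψs := Spec.preimage (S.fromSpecResidueField s)
  let β : CommRingCat.of k ⟶ S.residueField s := CommRingCat.ofHom
    (Ideal.Quotient.lift (IsLocalRing.maximalIdeal R) ψs.hom fun r hr => by
      have h := Castel.ker_preimage_fromSpec s
      exact RingHom.mem_ker.1 (h.symm ▸ hr))
  have hβ : Spec.map β ≫ res = S.fromSpecResidueField s := by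
    rw [← Spec.map_comp, ← Spec.map_preimage (S.fromSpecResidueField s)]
    rfl
  have hbigs : IsPullback (p.fiberι s) (p.fiberToSpecResidueField s) p (Spec.map β ≫ res) := by
    rw [hβ]; exact IsPullback.of_hasPullback _ _
  have hgs := IsPullback.of_hasPullback p res
  let γs : p.fiber s ⟶ Y := hgs.lift (p.fiberι s) (p.fiberToSpecResidueField s ≫ Spec.map β)
    (by rw [Category.assoc]; exact hbigs.w)
  have sqs : IsPullback γs (p.fiberToSpecResidueField s) (pullback.snd p res) (Spec.map β) :=
    IsPullback.of_right (by rw [hgs.lift_fst]; exact hbigs) (hgs.lift_snd _ _ _) hgs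
  have es := Castel.eulerChar_of_sq (Y := Y) p s β γs sqs
  haveI : Coh.IsQCoh (Coh.structureModule 𝒳) := Groth.Agent.QC.isQCoh_unit _
  haveI : LocallyOfFinitePresentation p := inferInstance
  have hlc := Groth.Agent.BettiNN.isLocallyConstant_eulerChar p (F := Coh.structureModule 𝒳)
    (Groth.Agent.QC.isFP_of_isQCoh_of_isFT RefStalk.isCoh_structureModule.2)
    (SchDense.isFlatOver_unit p)
  haveI : PreconnectedSpace S := inferInstanceAs (PreconnectedSpace (PrimeSpectrum R))
  have heq := hlc.apply_eq_of_preconnectedSpace η s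
  simp only [eη, es] at heq
  rw [heq]
  let ι : Y ⟶ 𝒳 := pullback.fst p res
  haveI : IsClosedImmersion ι := inferInstanceAs (IsClosedImmersion (pullback.fst p res))
  have hker : ι.ker = Castel.fibreIdeal (Over.mk p) := Castel.ker_fst_residue (Over.mk p)
  obtain ⟨t⟩ := Castel.nonempty_trivial_fibreIdeal (X := Over.mk p)
  exact dvd_euler ι k hI (m := m) (hIm.trans ((Castel.OpenModel.specialFibreIdeal_eq _).trans hker.symm))
    (t ≪≫ eqToIso (congrArg ClSub.idealMod hker.symm))

end Groth.Agent.MultFibre
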